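import Mathlib
import Cfsg.Agent.Lib.Helper99.GUSP.Defs
import Cfsg.Agent.Lib.Helper13.Symp
import Cfsg.Agent.Lib.Helper45.HermGU

/-!
# S5976 (GUSP): package [GU]

A subgroup of `C_Sp(alpha0)` of order `|GU_d(q)|`: the regular representation of
`GU_d(E)` for `E = F[ω]/(ω² - a)` (Mathlib's `QuadraticAlgebra F a 0`).
-/

set_option autoImplicit false

namespace Cfsg.Agent.Lib.Helper67.GUSP

open Matrix Cfsg.Agent.Lib.Helper99.GUSP

universe u

section Basic

variable {F : Type u} [Field F]

/-- The coordinate map `F^(2d) → E^d`. -/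
def guPhi (d : ℕ) (a : F) (v : SI d → F) : Fin d → QuadraticAlgebra F a 0 :=
  fun j => ⟨v (Sum.inl j), v (Sum.inr j)⟩

/-- The regular representation `M_d(E) → M_{2d}(F)`. -/
def guPsi (d : ℕ) (a : F) (M : Matrix (Fin d) (Fin d) (QuadraticAlgebra F a 0)) :
    Matrix (SI d) (SI d) F :=
  Matrix.fromBlocks (M.map QuadraticAlgebra.re) (a • M.map QuadraticAlgebra.im)
    (M.map QuadraticAlgebra.im) (M.map QuadraticAlgebra.re)

theorem guPhi_injective (d : ℕ) (a : F) : Function.Injective (guPhi d a) := by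
  intro v w h
  funext s
  cases s with
  | inl j => exact congrArg QuadraticAlgebra.re (congrFun h j)
  | inr j => exact congrArg QuadraticAlgebra.im (congrFun h j)

theorem guPhi_surjective (d : ℕ) (a : F) : Function.Surjective (guPhi d a) := by
  intro w
  exact ⟨Sum.elim (fun j => (w j).re) (fun j => (w j).im), by funext j; rfl⟩

theorem re_sum' {a : F} {κ : Type*} (s : Finset κ) (f : κ → QuadraticAlgebra F a 0) :
    (∑ k ∈ s, f k).re = ∑ k ∈ s, (f k).re :=
  map_sum (QuadraticAlgebra.reₗ a 0) f s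

theorem im_sum' {a : F} {κ : Type*} (s : Finset κ) (f : κ → QuadraticAlgebra F a 0) :
    (∑ k ∈ s, f k).im = ∑ k ∈ s, (f k).im :=
  map_sum (QuadraticAlgebra.imₗ a 0) f s

theorem guPhi_psi (d : ℕ) (a : F) (M : Matrix (Fin d) (Fin d) (QuadraticAlgebra F a 0))
    (v : SI d → F) : guPhi d a (guPsi d a M *ᵥ v) = M *ᵥ guPhi d a v := by
  funext j
  apply QuadraticAlgebra.ext
  · show (guPsi d a M *ᵥ v) (Sum.inl j) = (∑ k, M j k * guPhi d a v k).re
    rw [re_sum']
    simp only [guPsi, Matrix.mulVec, dotProduct, Fintype.sum_sum_type, Matrix.fromBlocks_apply₁₁,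
      Matrix.fromBlocks_apply₁₂, Matrix.map_apply, Matrix.smul_apply, smul_eq_mul,
      QuadraticAlgebra.re_mul, guPhi]
    rw [← Finset.sum_add_distrib]
  · show (guPsi d a M *ᵥ v) (Sum.inr j) = (∑ k, M j k * guPhi d a v k).im
    rw [im_sum']
    simp only [guPsi, Matrix.mulVec, dotProduct, Fintype.sum_sum_type, Matrix.fromBlocks_apply₂₁,
      Matrix.fromBlocks_apply₂₂, Matrix.map_apply, Matrix.smul_apply, smul_eq_mul,
      QuadraticAlgebra.im_mul, guPhi]
    rw [← Finset.sum_add_distrib]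
    apply Finset.sum_congr rfl
    intro k _
    ring

theorem guPsi_eq_of (d : ℕ) (a : F) (M : Matrix (Fin d) (Fin d) (QuadraticAlgebra F a 0))
    (A : Matrix (SI d) (SI d) F)
    (h : ∀ v, guPhi d a (A *ᵥ v) = M *ᵥ guPhi d a v) : A = guPsi d a M := by
  apply Matrix.ext_of_mulVec_single
  intro s
  apply guPhi_injective
  rw [h, guPhi_psi]

theorem guPsi_one (d : ℕ) (a : F) : guPsi d a 1 = 1 := by
  symm
  apply guPsi_eq_of
  intro v
  rw [Matrix.one_mulVec, Matrix.one_mulVec]

theorem guPsi_mul (d : ℕ) (a : F) (M N : Matrix (Fin d) (Fin d) (QuadraticAlgebra F a 0)) :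
    guPsi d a (M * N) = guPsi d a M * guPsi d a N := by
  symm
  apply guPsi_eq_of
  intro v
  rw [← Matrix.mulVec_mulVec, guPhi_psi, guPhi_psi, Matrix.mulVec_mulVec]

theorem guPsi_injective (d : ℕ) (a : F) : Function.Injective (guPsi d a) := by
  intro M N h
  apply Matrix.ext_of_mulVec_single
  intro s
  obtain ⟨v, hv⟩ := guPhi_surjective d a (Pi.single s (1 : QuadraticAlgebra F a 0))
  rw [← hv, ← guPhi_psi, ← guPhi_psi, h]

/-- `guPsi` as a monoid hom. -/
def guPsiHom (d : ℕ) (a : F) :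
    Matrix (Fin d) (Fin d) (QuadraticAlgebra F a 0) →* Matrix (SI d) (SI d) F where
  toFun := guPsi d a
  map_one' := guPsi_one d a
  map_mul' := guPsi_mul d a

theorem guPsi_omega (d : ℕ) (a : F) :
    guPsi d a ((QuadraticAlgebra.omega : QuadraticAlgebra F a 0) •
      (1 : Matrix (Fin d) (Fin d) (QuadraticAlgebra F a 0))) = alpha0 d a := by
  unfold guPsi alpha0
  congr 1
  · ext i j
    by_cases h : i = j <;> simp [Matrix.one_apply, h]
  · ext i j
    by_cases h : i = j <;> simp [Matrix.one_apply, h]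
  · ext i j
    by_cases h : i = j <;> simp [Matrix.one_apply, h]
  · ext i j
    by_cases h : i = j <;> simp [Matrix.one_apply, h]

theorem guPsi_comm (d : ℕ) (a : F) (M : Matrix (Fin d) (Fin d) (QuadraticAlgebra F a 0)) :
    guPsi d a M * alpha0 d a = alpha0 d a * guPsi d a M := by
  rw [← guPsi_omega, ← guPsi_mul, ← guPsi_mul]
  congr 1
  rw [Matrix.mul_smul, Matrix.smul_mul, Matrix.mul_one, Matrix.one_mul]

end Basic

section Finite

variable {F : Type u} [Field F] [Fintype F]

theorem fact_of_not_sq {a : F} (ha : ¬ IsSquare a) : Fact (∀ r : F, r ^ 2 ≠ a + 0 * r) :=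
  ⟨fun r h => ha ⟨r, by rw [zero_mul, add_zero] at h; rw [← h, sq]⟩⟩

/-- The `q`-th power map of `E` is the conjugation. -/
theorem gu_frob (hq : Odd (Fintype.card F)) {a : F} (ha : ¬ IsSquare a)
    [Fact (∀ r : F, r ^ 2 ≠ a + 0 * r)] (z : QuadraticAlgebra F a 0) :
    z ^ (Fintype.card F) = ⟨z.re, -z.im⟩ := by
  obtain ⟨p, hp⟩ := CharP.exists F
  haveI := hp
  obtain ⟨n, hpp, hcard⟩ := FiniteField.card F p
  haveI : Fact p.Prime := ⟨hpp⟩
  haveI : CharP (QuadraticAlgebra F a 0) p :=
    charP_of_injective_algebraMap (algebraMap F (QuadraticAlgebra F a 0)).injective p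
  have ha0 : a ≠ 0 := fun h => ha (h ▸ ⟨0, by simp⟩)
  have hchar : ringChar F ≠ 2 := by
    intro h
    rw [FiniteField.even_card_iff_char_two] at h
    rcases hq with ⟨m, hm⟩
    omega
  have hneg : a ^ (Fintype.card F / 2) = -1 := by
    rcases FiniteField.pow_dichotomy hchar ha0 with h | h
    · exact absurd ((FiniteField.isSquare_iff hchar ha0).mpr h) ha
    · exact h
  have hom : (QuadraticAlgebra.omega : QuadraticAlgebra F a 0) ^ (Fintype.card F)
      = - QuadraticAlgebra.omega := by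
    rcases hq with ⟨m, hm⟩
    have hm2 : Fintype.card F / 2 = m := by omega
    rw [hm2] at hneg
    have hww : (QuadraticAlgebra.omega : QuadraticAlgebra F a 0) * QuadraticAlgebra.omega
        = algebraMap F _ a := by
      rw [QuadraticAlgebra.omega_mul_omega_eq_mk]; rfl
    rw [hm, pow_succ, pow_mul, sq, hww, ← map_pow, hneg, map_neg, map_one, neg_one_mul]
  have hz : z = algebraMap F _ z.re + algebraMap F _ z.im * QuadraticAlgebra.omega := by
    apply QuadraticAlgebra.ext <;> simp
  have hx : ∀ x : F, (algebraMap F (QuadraticAlgebra F a 0) x) ^ (Fintype.card F)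
      = algebraMap F _ x := by
    intro x
    rw [← map_pow, FiniteField.pow_card]
  conv_lhs => rw [hz]
  rw [hcard, add_pow_char_pow, mul_pow, ← hcard, hx, hx, hom]
  apply QuadraticAlgebra.ext <;> simp

/-- The symplectic form is the imaginary part of the Hermitian form. -/
theorem gu_form (hq : Odd (Fintype.card F)) {a : F} (ha : ¬ IsSquare a)
    [Fact (∀ r : F, r ^ 2 ≠ a + 0 * r)] (d : ℕ) (u v : SI d → F) :
    Cfsg.sympForm d F u v
      = (Cfsg.hermForm d (QuadraticAlgebra F a 0) (Fintype.card F)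
          (guPhi d a u) (guPhi d a v)).im := by
  rw [Cfsg.Agent.Lib.Helper13.sympForm_eq, Cfsg.hermForm, im_sum']
  apply Finset.sum_congr rfl
  intro i _
  rw [gu_frob hq ha]
  simp only [guPhi, QuadraticAlgebra.im_mul]
  ring

end Finite

/-- [GU] -/
theorem pkgGU : PkgGU.{u} := by
  intro F _ _ hq d a ha
  classical
  haveI : Fact (∀ r : F, r ^ 2 ≠ a + 0 * r) := fact_of_not_sq ha
  letI : Fintype (QuadraticAlgebra F a 0) :=
    Fintype.ofEquiv (F × F) (QuadraticAlgebra.equivProd a 0).symm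
  have hcard : Fintype.card (QuadraticAlgebra F a 0) = Fintype.card F ^ 2 := by
    rw [Fintype.card_congr (QuadraticAlgebra.equivProd a 0), Fintype.card_prod, sq]
  let f : Cfsg.GU d (QuadraticAlgebra F a 0) (Fintype.card F) →* GL (SI d) F :=
    (Units.map (guPsiHom d a)).comp (Cfsg.GU d (QuadraticAlgebra F a 0) (Fintype.card F)).subtype
  have hf : ∀ M : Cfsg.GU d (QuadraticAlgebra F a 0) (Fintype.card F),
      ((f M : GL (SI d) F) : Matrix (SI d) (SI d) F)
        = guPsi d a ((M : GL (Fin d) (QuadraticAlgebra F a 0)) :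
            Matrix (Fin d) (Fin d) (QuadraticAlgebra F a 0)) := fun M => rfl
  have hinj : Function.Injective f := by
    intro M N h
    have h1 := congrArg (fun g : GL (SI d) F => (g : Matrix (SI d) (SI d) F)) h
    simp only [hf] at h1
    exact Subtype.ext (Units.ext (guPsi_injective d a h1))
  refine ⟨f.range, ?_, ?_, ?_⟩
  · rintro g ⟨M, rfl⟩
    intro u v
    show Cfsg.sympForm d F (((f M : GL (SI d) F) : Matrix (SI d) (SI d) F) *ᵥ u)
      (((f M : GL (SI d) F) : Matrix (SI d) (SI d) F) *ᵥ v) = Cfsg.sympForm d F u v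
    rw [hf, gu_form hq ha, gu_form hq ha, guPhi_psi, guPhi_psi]
    exact congrArg QuadraticAlgebra.im (M.2 (guPhi d a u) (guPhi d a v))
  · rintro g ⟨M, rfl⟩
    rw [hf]
    exact guPsi_comm d a _
  · rw [← Cfsg.Agent.Lib.Helper45.card_GU hcard d]
    exact (Nat.card_congr (MonoidHom.ofInjective hinj).toEquiv).symm

end Cfsg.Agent.Lib.Helper67.GUSP
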